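import Mathlib
import Cfsg.Agent.Lib.TypeM22.NormalForm

/-!
# The vectors of the points of the permutation representation
-/

set_option autoImplicit false
set_option maxRecDepth 100000
set_option linter.all false

namespace Cfsg.Agent.TcChain36.LM22

open Cfsg.Agent.Lib.TypeM22 (V0)

/-- The vectors of the points. -/
def LLv : List V0 := [
  ![0, 1, 1, 1, 1, 0],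
  ![0, 1, 1, 1, 2, 0],
  ![1, 1, 2, 2, 0, 0],
  ![1, 1, 0, 0, 1, 1],
  ![1, 1, 0, 0, 2, 1],
  ![0, 1, 2, 2, 0, 1],
  ![0, 0, 0, 0, 1, 0],
  ![1, 0, 1, 1, 2, 0],
  ![1, 2, 1, 1, 0, 0],
  ![1, 1, 0, 0, 1, 2],
  ![1, 0, 2, 2, 0, 1],
  ![1, 2, 0, 0, 2, 2],
  ![1, 1, 0, 0, 2, 2],
  ![1, 2, 0, 0, 1, 2],
  ![0, 1, 2, 2, 0, 2],
  ![0, 0, 1, 1, 2, 1],
  ![1, 0, 1, 1, 1, 0],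
  ![1, 0, 2, 2, 1, 0],
  ![0, 1, 1, 2, 0, 2],
  ![1, 0, 2, 2, 0, 2],
  ![1, 1, 0, 1, 2, 0],
  ![1, 2, 0, 0, 2, 1],
  ![1, 0, 1, 1, 0, 2],
  ![0, 1, 0, 1, 2, 1],
  ![1, 1, 1, 1, 0, 0],
  ![1, 1, 0, 1, 1, 0],
  ![1, 2, 0, 0, 1, 1],
  ![0, 1, 0, 1, 1, 1],
  ![0, 1, 1, 1, 0, 1],
  ![0, 0, 1, 1, 2, 2],
  ![1, 2, 2, 1, 0, 0],
  ![0, 0, 1, 1, 1, 1],
  ![1, 0, 2, 2, 2, 0],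
  ![0, 1, 1, 0, 2, 1],
  ![0, 1, 1, 2, 0, 1],
  ![1, 2, 1, 2, 0, 0],
  ![1, 0, 1, 1, 0, 1],
  ![1, 2, 0, 2, 1, 0],
  ![1, 0, 0, 1, 1, 1],
  ![0, 1, 2, 1, 0, 2],
  ![0, 1, 0, 1, 2, 2],
  ![1, 1, 2, 0, 0, 2],
  ![1, 2, 2, 2, 0, 0],
  ![1, 2, 0, 2, 2, 0],
  ![1, 0, 0, 1, 2, 1],
  ![0, 1, 1, 1, 0, 2],
  ![0, 1, 0, 1, 1, 2],
  ![1, 2, 1, 0, 0, 2],
  ![0, 0, 1, 1, 1, 2],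
  ![1, 1, 1, 0, 2, 0],
  ![1, 1, 1, 2, 0, 0],
  ![0, 1, 1, 0, 1, 1],
  ![1, 0, 0, 0, 0, 0],
  ![0, 1, 1, 0, 2, 2],
  ![0, 1, 2, 0, 1, 2],
  ![1, 1, 2, 1, 0, 0],
  ![1, 2, 2, 0, 0, 1],
  ![1, 0, 0, 2, 2, 2],
  ![1, 1, 2, 0, 1, 0],
  ![1, 0, 0, 1, 1, 2],
  ![0, 1, 2, 1, 0, 1],
  ![0, 1, 2, 0, 1, 1],
  ![1, 1, 2, 0, 0, 1],
  ![1, 2, 1, 0, 0, 1],
  ![1, 0, 1, 2, 0, 2],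
  ![0, 1, 2, 2, 1, 0],
  ![1, 0, 0, 2, 1, 2],
  ![0, 1, 1, 2, 2, 0],
  ![1, 0, 0, 1, 2, 2],
  ![1, 0, 2, 1, 0, 2],
  ![0, 0, 0, 0, 0, 1],
  ![1, 1, 1, 0, 1, 0],
  ![1, 2, 2, 0, 1, 0],
  ![1, 2, 1, 0, 2, 0],
  ![0, 1, 1, 0, 1, 2],
  ![1, 2, 0, 1, 0, 2],
  ![0, 1, 0, 2, 1, 1],
  ![0, 1, 2, 0, 2, 2],
  ![1, 1, 1, 0, 0, 2],
  ![1, 2, 0, 1, 2, 0],
  ![1, 2, 2, 0, 0, 2],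
  ![1, 0, 0, 2, 2, 1],
  ![0, 0, 1, 2, 2, 1],
  ![1, 1, 2, 0, 2, 0],
  ![1, 0, 1, 2, 2, 0],
  ![0, 1, 0, 2, 1, 2],
  ![0, 1, 2, 0, 2, 1],
  ![1, 0, 2, 1, 0, 1],
  ![1, 0, 1, 2, 0, 1],
  ![1, 0, 1, 0, 2, 1],
  ![0, 1, 2, 2, 2, 0],
  ![1, 0, 0, 2, 1, 1],
  ![1, 0, 2, 0, 1, 1],
  ![0, 1, 1, 2, 1, 0],
  ![1, 1, 0, 2, 0, 2],
  ![1, 2, 2, 0, 2, 0],
  ![1, 1, 0, 2, 1, 0],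
  ![1, 2, 1, 0, 1, 0],
  ![0, 1, 2, 1, 2, 0],
  ![1, 2, 0, 1, 0, 1],
  ![1, 1, 0, 2, 0, 1],
  ![0, 1, 0, 2, 2, 1],
  ![0, 0, 1, 2, 1, 2],
  ![1, 1, 0, 1, 0, 2],
  ![1, 1, 1, 0, 0, 1],
  ![0, 1, 0, 2, 2, 2],
  ![1, 2, 0, 1, 1, 0],
  ![1, 0, 2, 1, 1, 0],
  ![0, 0, 1, 2, 2, 2],
  ![0, 0, 1, 2, 1, 1],
  ![1, 1, 0, 1, 0, 1],
  ![1, 0, 1, 2, 1, 0],
  ![1, 0, 2, 0, 1, 2],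
  ![1, 0, 1, 0, 2, 2],
  ![1, 0, 1, 0, 1, 1],
  ![0, 1, 0, 0, 0, 0],
  ![1, 0, 2, 0, 2, 1],
  ![0, 0, 0, 1, 0, 0],
  ![1, 1, 0, 2, 2, 0],
  ![1, 2, 0, 2, 0, 2],
  ![1, 0, 2, 1, 2, 0],
  ![0, 1, 2, 1, 1, 0],
  ![1, 0, 2, 0, 2, 2],
  ![1, 2, 0, 2, 0, 1],
  ![0, 0, 1, 0, 0, 0],
  ![1, 0, 1, 0, 1, 2]]

/-- The vector of a point. -/
def ell (p : ℕ) : V0 := LLv.getD p 0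

/-- The vectors of the letters. -/
def vecL : ℕ → V0
  | 0 => ![0, 0, 0, 0, 0, 1]
  | 1 => ![0, 0, 1, 1, 1, 1]
  | 2 => ![0, 0, 0, 0, 1, 0]
  | 3 => ![0, 1, 1, 1, 1, 0]
  | 4 => ![1, 1, 0, 2, 0, 1]
  | 5 => ![1, 0, 0, 0, 0, 0]
  | _ => ![1, 0, 1, 1, 1, 0]

end Cfsg.Agent.TcChain36.LM22
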